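import Cfsg.Agent.H779.G2.Stmts

/-!
# S5211, tasks G2-REAL-a, G2-REAL-b: the interface to the concrete group `G₂(K)`
-/

set_option autoImplicit false

namespace Cfsg.Agent.H913.GT

open Cfsg Cfsg.FusionSystem Cfsg.Agent.H756.PU Cfsg.Agent.H779.G2

universe u

/-- The data supplied by the concrete group `G0 = G₂(K)` (automorphisms of Zorn's algebra), `T` = the group of the pairs
`(a, b)`, `a ∈ MulAut (GU K)` in `TT K`, `b ∈ MulAut G0` extending `a` (torus, field automorphisms, for `p = 3` also graph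
automorphisms). -/
structure RData (K : Type u) [Field K] (p : ℕ) where
  G0 : Type u
  T : Type u
  [grpG : Group G0]
  [finG : Finite G0]
  [grpT : Group T]
  /-- the embedding -/
  ι : GU K →* G0
  ρ : T →* MulAut (GU K)
  A : T →* MulAut G0
  inj : Function.Injective ι
  syl : ¬ p ∣ ι.range.index
  injT : Function.Injective ρ
  rng : TT K ≤ ρ.range
  act : ∀ (t : T) (x : GU K), A t (ι x) = ι (ρ t x)
  nrm : ∀ g : G0, (∀ x : GU K, g * ι x * g⁻¹ ∈ ι.range) →
    ∃ (u : GU K) (s t : K) (α : MulAut (GU K)), IsTor α s t (RingEquiv.refl K) ∧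
      ∀ x : GU K, g * ι x * g⁻¹ = ι (u * α x * u⁻¹)
  wa : ∃ g : G0, ∀ γ : MulAut (Qa K), IsWa γ → ∀ e : Qa K, g * ι (e : GU K) * g⁻¹ = ι ((γ e : Qa K) : GU K)
  wb : ∃ g : G0, ∀ γ : MulAut (Qb K), IsWb γ → ∀ e : Qb K, g * ι (e : GU K) * g⁻¹ = ι ((γ e : Qb K) : GU K)

attribute [instance] RData.grpG RData.finG RData.grpT

/-- (REAL-a) -/
def StRealA : Prop :=
  ∀ {K : Type u} [Field K] {p n : ℕ} [Fact p.Prime], HypG K p n → Nonempty (RData.{u} K p)

end Cfsg.Agent.H913.GT
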