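import Cfsg.Agent.H913.GT.Tor
import Cfsg.Agent.H245.DG.GTwoAut

/-!
# S5211, task G2-REAL-a: generation of `Cfsg.Lie.G2 K`, the graph automorphism in characteristic three
-/

set_option autoImplicit false

namespace Cfsg.Agent.H913.GT

open Cfsg Cfsg.Lie Cfsg.Agent.H638.G2Link Cfsg.Agent.H779.G2
open Cfsg.Agent.H70.ChevFix Cfsg.Agent.H490.G2

universe u

variable {K : Type u} [Field K]

/-! ### the isomorphism with the Chevalley group -/

theorem exists_equiv [Finite K] : ∃ e : Cfsg.Lie.G2 K ≃* chevG2.group K,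
    ∀ (r : Fin 12) (t : K), e (y r t) = xe hD (r : ℕ) t := by
  have : Fintype K := Fintype.ofFinite K
  have h : Nat.card (Cfsg.Lie.G2 K) ≤ Nat.card (chevG2.group K) := by
    rw [Cfsg.Agent.S1059.result (F := K) (q := Nat.card K) Nat.card_eq_fintype_card.symm]
    exact H638.G2Ord.card_G2_le
  have h1 : Nat.card (Link K) ≤ Nat.card (Cfsg.Lie.G2 K) := Nat.card_le_card_of_injective _ toG2_injective
  have h2 : Nat.card (chevG2.group K) ≤ Nat.card (Link K) := Nat.card_le_card_of_surjective _ toChev_surjective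
  have : Finite (Cfsg.Lie.G2 K) := finite_G2
  have : Finite (chevG2.group K) := Nat.finite_of_card_ne_zero (by
    have := Nat.card_pos (α := Cfsg.Lie.G2 K)
    omega)
  have b1 : Function.Bijective (toG2 K) :=
    (Nat.bijective_iff_injective_and_card _).2 ⟨toG2_injective, by omega⟩
  have b2 : Function.Bijective (toChev K) :=
    (Nat.bijective_iff_surjective_and_card _).2 ⟨toChev_surjective, by omega⟩
  refine ⟨(MulEquiv.ofBijective _ b1).symm.trans (MulEquiv.ofBijective _ b2), fun r t => ?_⟩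
  let l : Link K := ⟨(yG (r : Fin 12) t, xG (r : Fin 12) t), Subgroup.subset_closure ⟨r, t, rfl⟩⟩
  have e1 : MulEquiv.ofBijective _ b1 l = y r t := rfl
  have e2 : (MulEquiv.ofBijective _ b1).symm (y r t) = l := by
    rw [← e1, MulEquiv.symm_apply_apply]
  show (MulEquiv.ofBijective _ b2) ((MulEquiv.ofBijective _ b1).symm (y r t)) = _
  rw [e2]
  apply H69.OutGF.eq_xe hD
  show chevG2.xMat K (r : Fin 12) t = chevG2.x K (r : ℕ) t
  rw [ChevalleyDatum.x, dif_pos (show (r : ℕ) < chevG2.nroots from r.2)]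
  rfl

/-- automorphisms are determined by their values on four root groups -/
theorem ext4 [Finite K] {φ ψ : MulAut (Cfsg.Lie.G2 K)} (h7 : ∀ t : K, φ (y 7 t) = ψ (y 7 t))
    (h6 : ∀ t : K, φ (y 6 t) = ψ (y 6 t)) (h4 : ∀ t : K, φ (y 4 t) = ψ (y 4 t))
    (h5 : ∀ t : K, φ (y 5 t) = ψ (y 5 t)) : φ = ψ := by
  obtain ⟨e, he⟩ := exists_equiv (K := K)
  have key : MulAut.congr e φ = MulAut.congr e ψ := by
    apply H245.DG.G2.ext4 <;> intro t
    · have h := he 7 t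
      show e (φ (e.symm (xe hD 7 t))) = e (ψ (e.symm (xe hD 7 t)))
      rw [show e.symm (xe hD 7 t) = y 7 t from e.symm_apply_eq.2 h.symm, h7]
    · have h := he 6 t
      show e (φ (e.symm (xe hD 6 t))) = e (ψ (e.symm (xe hD 6 t)))
      rw [show e.symm (xe hD 6 t) = y 6 t from e.symm_apply_eq.2 h.symm, h6]
    · have h := he 4 t
      show e (φ (e.symm (xe hD 4 t))) = e (ψ (e.symm (xe hD 4 t)))
      rw [show e.symm (xe hD 4 t) = y 4 t from e.symm_apply_eq.2 h.symm, h4]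
    · have h := he 5 t
      show e (φ (e.symm (xe hD 5 t))) = e (ψ (e.symm (xe hD 5 t)))
      rw [show e.symm (xe hD 5 t) = y 5 t from e.symm_apply_eq.2 h.symm, h5]
  exact (MulAut.congr e).injective key

/-- the graph automorphism on the group -/
structure IsG (ρ : MulAut (Cfsg.Lie.G2 K)) : Prop where
  h7 : ∀ t : K, ρ (y 7 t) = y 6 (t ^ 3)
  h6 : ∀ t : K, ρ (y 6 t) = y 7 t
  h4 : ∀ t : K, ρ (y 4 t) = y 5 (t ^ 3)
  h5 : ∀ t : K, ρ (y 5 t) = y 4 t

theorem exists_isG [Finite K] [CharP K 3] : ∃ ρ : MulAut (Cfsg.Lie.G2 K), IsG ρ := by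
  obtain ⟨e, he⟩ := exists_equiv (K := K)
  obtain ⟨ρ, hρ⟩ := H245.DG.G2.exists_graph (F := K)
  refine ⟨MulAut.congr e.symm ρ, fun t => ?_, fun t => ?_, fun t => ?_, fun t => ?_⟩
  · show e.symm (ρ (e (y 7 t))) = _
    rw [he, e.symm_apply_eq, he]
    exact hρ.h7 t
  · show e.symm (ρ (e (y 6 t))) = _
    rw [he, e.symm_apply_eq, he]
    exact hρ.h6 t
  · show e.symm (ρ (e (y 4 t))) = _
    rw [he, e.symm_apply_eq, he]
    exact hρ.h4 t
  · show e.symm (ρ (e (y 5 t))) = _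
    rw [he, e.symm_apply_eq, he]
    exact hρ.h5 t

section

variable {ρ : MulAut (Cfsg.Lie.G2 K)}

theorem IsG.na (h : IsG ρ) : ρ na = nb := by
  have e : (-1 : K) ^ 3 = -1 := by ring
  rw [GT.na, map_mul, map_mul, h.h7, h.h4, e, one_pow]
  rfl

theorem IsG.nb (h : IsG ρ) : ρ nb = GT.na := by
  rw [GT.nb, map_mul, map_mul, h.h6, h.h5]
  rfl

theorem IsG.h10 (h : IsG ρ) (t : K) : ρ (y 10 t) = y 8 t := by
  rw [← na_y6, map_mul, map_mul, map_inv, h.na, h.h6, nb_y7]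

theorem IsG.h8 (h : IsG ρ) (t : K) : ρ (y 8 t) = y 10 (t ^ 3) := by
  rw [← nb_y7, map_mul, map_mul, map_inv, h.nb, h.h7, na_y6]

theorem IsG.h9 (h : IsG ρ) (t : K) : ρ (y 9 t) = y 11 (t ^ 3) := by
  rw [← na_y8, map_mul, map_mul, map_inv, h.na, h.h8, nb_y10]

theorem IsG.h11 (h : IsG ρ) (t : K) : ρ (y 11 t) = y 9 t := by
  rw [← nb_y10, map_mul, map_mul, map_inv, h.nb, h.h10, na_y8]

theorem y7_eq (t : K) : y 7 t = GT.emb (⟨t, 0, 0, 0, 0, 0⟩ : GU K) := by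
  apply ac_ext
  intro x
  rw [ac_y7, ac_emb]
  ext i
  fin_cases i <;> simp <;> ring

theorem y6_eq (t : K) : y 6 t = GT.emb (⟨0, t, 0, 0, 0, 0⟩ : GU K) := by
  apply ac_ext
  intro x
  rw [ac_y6, ac_emb]
  ext i
  fin_cases i <;> simp <;> ring

theorem y8_eq (t : K) : y 8 t = GT.emb (⟨0, 0, t, 0, 0, 0⟩ : GU K) := by
  apply ac_ext
  intro x
  rw [ac_y8, ac_emb]
  ext i
  fin_cases i <;> simp <;> ring

theorem y9_eq (t : K) : y 9 t = GT.emb (⟨0, 0, 0, t, 0, 0⟩ : GU K) := by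
  apply ac_ext
  intro x
  rw [ac_y9, ac_emb]
  ext i
  fin_cases i <;> simp <;> ring

theorem y10_eq (t : K) : y 10 t = GT.emb (⟨0, 0, 0, 0, -t, 0⟩ : GU K) := by
  apply ac_ext
  intro x
  rw [ac_y10, ac_emb]
  ext i
  fin_cases i <;> simp <;> ring

theorem y11_eq (t : K) : y 11 t = GT.emb (⟨0, 0, 0, 0, 0, -t⟩ : GU K) := by
  apply ac_ext
  intro x
  rw [ac_y11, ac_emb]
  ext i
  fin_cases i <;> simp <;> ring

/-- the graph automorphism extends the graph automorphism of `GU K` -/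
theorem IsG.emb (h : IsG ρ) {α : MulAut (GU K)} (hα : IsGr α) (x : GU K) : ρ (GT.emb x) = GT.emb (α x) := by
  have h3 := hα.three
  rw [emb_apply]
  simp only [map_mul]
  rw [h.h7, h.h6, h.h8, h.h9, h.h10, h.h11, y6_eq, y7_eq, y10_eq, y11_eq, y8_eq, y9_eq, ← map_mul, ← map_mul,
    ← map_mul, ← map_mul, ← map_mul]
  congr 1
  ext
  · rw [hα.a]; simp
  · rw [hα.b]; simp
  · rw [hα.c]; simp; ring
  · rw [hα.d]; simp; ring
  · rw [hα.e]; simp; ring
  · rw [hα.f]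
    simp
    linear_combination (- x.a ^ 3 * x.b ^ 2 * x.e) * h3

/-! ### the relations -/

theorem tau_tau [Finite K] (s t s' t' : Kˣ) (τ τ' : K ≃+* K) :
    tau s t τ * tau s' t' τ' = tau (s * Units.map (τ : K →* K) s') (t * Units.map (τ : K →* K) t') (τ'.trans τ) := by
  apply ext4 <;> intro u
  · rw [MulAut.mul_apply, tau_y7, tau_y7, tau_y7, map_mul, ← mul_assoc]
    rfl
  · rw [MulAut.mul_apply, tau_y6, tau_y6, tau_y6, map_mul, ← mul_assoc]
    rfl
  · rw [MulAut.mul_apply, tau_y4, tau_y4, tau_y4, map_mul, ← mul_assoc, map_inv₀, ← mul_inv]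
    rfl
  · rw [MulAut.mul_apply, tau_y5, tau_y5, tau_y5, map_mul, ← mul_assoc, map_inv₀, ← mul_inv]
    rfl

theorem IsG.tau [Finite K] (h : IsG ρ) (s t : Kˣ) (τ : K ≃+* K) :
    ρ * tau s t τ = GT.tau t (s ^ 3) τ * ρ := by
  apply ext4 <;> intro u
  · rw [MulAut.mul_apply, MulAut.mul_apply, tau_y7, h.h7, h.h7, tau_y6, map_pow, mul_pow, Units.val_pow_eq_pow_val]
  · rw [MulAut.mul_apply, MulAut.mul_apply, tau_y6, h.h6, h.h6, tau_y7]
  · rw [MulAut.mul_apply, MulAut.mul_apply, tau_y4, h.h4, h.h4, tau_y5, map_pow, mul_pow, Units.val_pow_eq_pow_val, inv_pow]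
  · rw [MulAut.mul_apply, MulAut.mul_apply, tau_y5, h.h5, h.h5, tau_y4]

theorem IsG.sq [Finite K] (h : IsG ρ) {τ : K ≃+* K} (hτ : ∀ x, τ x = x ^ 3) : ρ * ρ = GT.tau 1 1 τ := by
  apply ext4 <;> intro u
  · rw [MulAut.mul_apply, h.h7, h.h6, tau_y7, hτ, Units.val_one, one_mul]
  · rw [MulAut.mul_apply, h.h6, h.h7, tau_y6, hτ, Units.val_one, one_mul]
  · rw [MulAut.mul_apply, h.h4, h.h5, tau_y4, hτ, Units.val_one, inv_one, one_mul]
  · rw [MulAut.mul_apply, h.h5, h.h4, tau_y5, hτ, Units.val_one, inv_one, one_mul]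

end

end Cfsg.Agent.H913.GT
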