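import Cfsg.Agent.H913.GT.Nrm
import Cfsg.Agent.H913.GT.Gr
import Cfsg.Agent.H103.GT.Grp

/-!
# S5211, task G2-REAL-a: `StRealA`
-/

set_option autoImplicit false

namespace Cfsg.Agent.H913.GT

open Cfsg Cfsg.Lie Cfsg.Agent.H779.G2

universe u

variable {K : Type u} [Field K]

/-! ### the group of the pairs -/

/-- a pair of torus type -/
def T1 (a : MulAut (GU K) × MulAut (Cfsg.Lie.G2 K)) : Prop :=
  ∃ (s t : Kˣ) (τ : K ≃+* K), IsTor a.1 (s : K) (t : K) τ ∧ a.2 = tau s t τ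

/-- a pair of graph type -/
def T2 (ρ : MulAut (Cfsg.Lie.G2 K)) (a : MulAut (GU K) × MulAut (Cfsg.Lie.G2 K)) : Prop :=
  ∃ (s t : Kˣ) (τ : K ≃+* K) (α g : MulAut (GU K)), IsTor α (s : K) (t : K) τ ∧ IsGr g ∧ a.1 = α * g ∧ a.2 = tau s t τ * ρ

theorem gr_gr_cube {g g' : MulAut (GU K)} {τ : K ≃+* K} (h : IsGr g) (h' : IsGr g') (ht : IsTor (g * g') 1 1 τ) (z : K) :
    τ z = z ^ 3 := by
  have h1 := ht.a ⟨z, 0, 0, 0, 0, 0⟩
  rw [MulAut.mul_apply, h.a, h'.b, one_mul] at h1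
  exact h1.symm

variable [Finite K] {ρ : MulAut (Cfsg.Lie.G2 K)}

theorem T11 {a b : MulAut (GU K) × MulAut (Cfsg.Lie.G2 K)} (ha : T1 a) (hb : T1 b) : T1 (a * b) := by
  obtain ⟨s, t, τ, h1, h2⟩ := ha
  obtain ⟨s', t', τ', h1', h2'⟩ := hb
  refine ⟨s * Units.map (τ : K →* K) s', t * Units.map (τ : K →* K) t', τ'.trans τ, H103.GT.tor_mul h1 h1', ?_⟩
  rw [Prod.snd_mul, h2, h2', tau_tau]

theorem T12 {a b : MulAut (GU K) × MulAut (Cfsg.Lie.G2 K)} (ha : T1 a) (hb : T2 ρ b) : T2 ρ (a * b) := by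
  obtain ⟨s, t, τ, h1, h2⟩ := ha
  obtain ⟨s', t', τ', α, g, h1', hg, h2', h3'⟩ := hb
  refine ⟨s * Units.map (τ : K →* K) s', t * Units.map (τ : K →* K) t', τ'.trans τ, a.1 * α, g,
    H103.GT.tor_mul h1 h1', hg, ?_, ?_⟩
  · rw [Prod.fst_mul, h2', mul_assoc]
  · rw [Prod.snd_mul, h2, h3', ← mul_assoc, tau_tau]

theorem T21 (hρ : (3 : K) = 0 → IsG ρ) {a b : MulAut (GU K) × MulAut (Cfsg.Lie.G2 K)} (ha : T2 ρ a) (hb : T1 b) :
    T2 ρ (a * b) := by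
  obtain ⟨s, t, τ, α, g, h1, hg, h2, h3⟩ := ha
  obtain ⟨s', t', τ', h1', h2'⟩ := hb
  obtain ⟨α', hα', e⟩ := H103.GT.gr_tor hg h1'
  have hα'' : IsTor α' ((t' : Kˣ) : K) ((s' ^ 3 : Kˣ) : K) τ' := by
    rw [Units.val_pow_eq_pow_val]; exact hα'
  refine ⟨s * Units.map (τ : K →* K) t', t * Units.map (τ : K →* K) (s' ^ 3), τ'.trans τ, α * α', g,
    H103.GT.tor_mul h1 hα'', hg, ?_, ?_⟩
  · rw [Prod.fst_mul, h2, mul_assoc, e, mul_assoc]
  · rw [Prod.snd_mul, h3, h2', mul_assoc, (hρ hg.three).tau, ← mul_assoc, tau_tau]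

theorem T22 (hρ : (3 : K) = 0 → IsG ρ) {a b : MulAut (GU K) × MulAut (Cfsg.Lie.G2 K)} (ha : T2 ρ a) (hb : T2 ρ b) :
    T1 (a * b) := by
  obtain ⟨s, t, τ, α, g, h1, hg, h2, h3⟩ := ha
  obtain ⟨s', t', τ', β, g', h1', hg', h2', h3'⟩ := hb
  obtain ⟨β', hβ', e⟩ := H103.GT.gr_tor hg h1'
  have hβ'' : IsTor β' ((t' : Kˣ) : K) ((s' ^ 3 : Kˣ) : K) τ' := by
    rw [Units.val_pow_eq_pow_val]; exact hβ'
  obtain ⟨φ, hφ⟩ := H103.GT.gr_gr hg hg'
  have hφ' : IsTor (g * g') ((1 : Kˣ) : K) ((1 : Kˣ) : K) φ := by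
    rw [Units.val_one]; exact hφ
  have h4 : a * b = (a.1 * b.1, a.2 * b.2) := rfl
  have e1 : a.1 * b.1 = (α * β') * (g * g') := by
    rw [h2, h2', mul_assoc, ← mul_assoc g, e]
    group
  have e2 : a.2 * b.2 = (tau s t τ * tau t' (s' ^ 3) τ') * tau 1 1 φ := by
    rw [h3, h3', ← (hρ hg.three).sq (gr_gr_cube hg hg' hφ), mul_assoc, ← mul_assoc ρ, (hρ hg.three).tau]
    group
  have k : T1 ((α * β', tau s t τ * tau t' (s' ^ 3) τ') : MulAut (GU K) × MulAut (Cfsg.Lie.G2 K)) :=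
    ⟨s * Units.map (τ : K →* K) t', t * Units.map (τ : K →* K) (s' ^ 3), τ'.trans τ,
      H103.GT.tor_mul h1 hβ'', tau_tau _ _ _ _ _ _⟩
  have k' : T1 ((g * g', tau 1 1 φ) : MulAut (GU K) × MulAut (Cfsg.Lie.G2 K)) := ⟨1, 1, φ, hφ', rfl⟩
  rw [h4, e1, e2]
  exact T11 k k'

theorem finite_mulAut (G : Type*) [Group G] [Finite G] : Finite (MulAut G) :=
  Finite.of_injective (fun e : MulAut G => (e : G → G)) (fun _ _ h => MulEquiv.ext (fun x => congrFun h x))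

omit [Finite K] in
theorem isTor_one : IsTor (1 : MulAut (GU K)) 1 1 (RingEquiv.refl K) := by
  refine ⟨one_ne_zero, one_ne_zero, fun g => ?_, fun g => ?_, fun g => ?_, fun g => ?_, fun g => ?_, fun g => ?_⟩ <;> simp

theorem tau_one : tau 1 1 (RingEquiv.refl K) = 1 := by
  apply ext4 <;> intro u
  · rw [tau_y7]; simp
  · rw [tau_y6]; simp
  · rw [tau_y4]; simp
  · rw [tau_y5]; simp

/-- the monoid of the pairs -/
def MP (ρ : MulAut (Cfsg.Lie.G2 K)) (hρ : (3 : K) = 0 → IsG ρ) : Submonoid (MulAut (GU K) × MulAut (Cfsg.Lie.G2 K)) where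
  carrier := {a | T1 a ∨ T2 ρ a}
  mul_mem' := by
    rintro a b (ha | ha) (hb | hb)
    · exact Or.inl (T11 ha hb)
    · exact Or.inr (T12 ha hb)
    · exact Or.inr (T21 hρ ha hb)
    · exact Or.inl (T22 hρ ha hb)
  one_mem' := Or.inl ⟨1, 1, RingEquiv.refl K, by rw [Units.val_one]; exact isTor_one, tau_one.symm⟩

/-- the group of the pairs -/
def TP (ρ : MulAut (Cfsg.Lie.G2 K)) (hρ : (3 : K) = 0 → IsG ρ) : Subgroup (MulAut (GU K) × MulAut (Cfsg.Lie.G2 K)) where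
  toSubmonoid := MP ρ hρ
  inv_mem' := by
    intro x hx
    have := finite_mulAut (GU K)
    have : Finite (Cfsg.Lie.G2 K) := finite_G2
    have := finite_mulAut (Cfsg.Lie.G2 K)
    have h1 : x ^ (orderOf x - 1) = x⁻¹ := by
      rw [eq_comm, inv_eq_iff_mul_eq_one, ← pow_succ', Nat.sub_add_cancel (orderOf_pos x), pow_orderOf_eq_one]
    rw [← h1]
    exact (MP ρ hρ).pow_mem hx _

omit [Finite K] in
theorem isTor_unique {α : MulAut (GU K)} {s t s' t' : Kˣ} {τ τ' : K ≃+* K} (h : IsTor α (s : K) (t : K) τ)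
    (h' : IsTor α (s' : K) (t' : K) τ') : s = s' ∧ t = t' ∧ τ = τ' := by
  have ha : ∀ z : K, (s : K) * τ z = s' * τ' z := fun z => by
    have h1 := h.a ⟨z, 0, 0, 0, 0, 0⟩
    rw [h'.a] at h1
    exact h1.symm
  have hb : ∀ z : K, (t : K) * τ z = t' * τ' z := fun z => by
    have h1 := h.b ⟨0, z, 0, 0, 0, 0⟩
    rw [h'.b] at h1
    exact h1.symm
  have hs : (s : K) = s' := by simpa using ha 1
  have ht : (t : K) = t' := by simpa using hb 1
  refine ⟨Units.ext hs, Units.ext ht, ?_⟩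
  ext z
  have h1 := ha z
  rw [hs] at h1
  exact mul_left_cancel₀ s'.ne_zero h1

omit [Finite K] in
theorem isGr_unique {g g' : MulAut (GU K)} (h : IsGr g) (h' : IsGr g') : g = g' :=
  H103.GT.ext_aut fun x => ⟨by rw [h.a, h'.a], by rw [h.b, h'.b], by rw [h.c, h'.c], by rw [h.d, h'.d],
    by rw [h.e, h'.e], by rw [h.f, h'.f]⟩

omit [Finite K] in
theorem not_T1_T2 {a b : MulAut (GU K) × MulAut (Cfsg.Lie.G2 K)} (h : a.1 = b.1) (ha : T1 a) (hb : T2 ρ b) : False := by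
  obtain ⟨s, t, τ, h1, -⟩ := ha
  obtain ⟨s', t', τ', α, g, h1', hg, h2', -⟩ := hb
  have h3 := h1.a ⟨0, 1, 0, 0, 0, 0⟩
  rw [h, h2', MulAut.mul_apply, h1'.a, hg.a] at h3
  have h4 : (s' : K) * τ' 1 = s * τ 0 := h3
  rw [map_one, map_zero, mul_one, mul_zero] at h4
  exact s'.ne_zero h4

theorem fst_injective (hρ : (3 : K) = 0 → IsG ρ) :
    Function.Injective ((MonoidHom.fst _ _).comp (TP ρ hρ).subtype) := by
  rintro ⟨a, ha⟩ ⟨b, hb⟩ (hab : a.1 = b.1)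
  apply Subtype.ext
  refine Prod.ext hab ?_
  rcases ha with ha | ha <;> rcases hb with hb | hb
  · obtain ⟨s, t, τ, h1, h2⟩ := ha
    obtain ⟨s', t', τ', h1', h2'⟩ := hb
    rw [hab] at h1
    obtain ⟨rfl, rfl, rfl⟩ := isTor_unique h1 h1'
    exact h2.trans h2'.symm
  · exact (not_T1_T2 hab ha hb).elim
  · exact (not_T1_T2 hab.symm hb ha).elim
  · obtain ⟨s, t, τ, α, g, h1, hg, h2, h3⟩ := ha
    obtain ⟨s', t', τ', α', g', h1', hg', h2', h3'⟩ := hb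
    obtain rfl := isGr_unique hg hg'
    rw [hab, h2'] at h2
    obtain rfl := mul_right_cancel h2
    obtain ⟨rfl, rfl, rfl⟩ := isTor_unique h1 h1'
    exact h3.trans h3'.symm

/-- **(REAL-a)** -/
theorem realA : StRealA.{u} := by
  intro K _ p n _ h
  have hfin : Finite K := h.fin
  have : Finite (Cfsg.Lie.G2 K) := finite_G2
  obtain ⟨ρ, hρ⟩ : ∃ ρ : MulAut (Cfsg.Lie.G2 K), (3 : K) = 0 → IsG ρ := by
    by_cases h3 : (3 : K) = 0
    · have : CharP K 3 := by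
        refine (CharP.charP_iff_prime_eq_zero Nat.prime_three).2 ?_
        exact_mod_cast h3
      obtain ⟨ρ, hρ⟩ := exists_isG (K := K)
      exact ⟨ρ, fun _ => hρ⟩
    · exact ⟨1, fun h => absurd h h3⟩
  refine ⟨{
    G0 := Cfsg.Lie.G2 K
    T := TP ρ hρ
    ι := emb
    ρ := (MonoidHom.fst _ _).comp (TP ρ hρ).subtype
    A := (MonoidHom.snd _ _).comp (TP ρ hρ).subtype
    inj := emb_injective
    syl := not_dvd_index h
    injT := fst_injective hρ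
    rng := ?_
    act := ?_
    nrm := ?_
    wa := ⟨na, fun γ hγ e => na_emb hγ e⟩
    wb := ⟨nb, fun γ hγ e => nb_emb hγ e⟩ }⟩
  · rw [TT, Subgroup.closure_le]
    rintro α (⟨s, t, τ, hα⟩ | hα)
    · exact ⟨⟨(α, tau (Units.mk0 s hα.ne1) (Units.mk0 t hα.ne2) τ), Or.inl ⟨_, _, _, hα, rfl⟩⟩, rfl⟩
    · exact ⟨⟨(1 * α, tau 1 1 (RingEquiv.refl K) * ρ), Or.inr ⟨1, 1, _, 1, α,
        by rw [Units.val_one]; exact isTor_one, hα, rfl, rfl⟩⟩, one_mul α⟩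
  · rintro ⟨⟨a, b⟩, ⟨s, t, τ, h1, h2⟩ | ⟨s, t, τ, α, g, h1, hg, h2, h3⟩⟩ x
    · show b (emb x) = emb (a x)
      rw [show b = tau s t τ from h2]
      exact tau_emb h1 x
    · show b (emb x) = emb (a x)
      rw [show b = tau s t τ * ρ from h3, show a = α * g from h2, MulAut.mul_apply, (hρ hg.three).emb hg, tau_emb h1]
      rfl
  · intro g hg
    have hmap : (emb : GU K →* Cfsg.Lie.G2 K).range.map (MulAut.conj g).toMonoidHom = (emb : GU K →* Cfsg.Lie.G2 K).range := by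
      refine Subgroup.eq_of_le_of_card_ge ?_ ?_
      · rintro _ ⟨_, ⟨x, rfl⟩, rfl⟩
        exact hg x
      · rw [Subgroup.card_map_of_injective (MulAut.conj g).injective]
    have hg' : ∀ x : GU K, ∃ y : GU K, emb x * g = g * emb y := by
      intro x
      have h1 : emb x ∈ (emb : GU K →* Cfsg.Lie.G2 K).range.map (MulAut.conj g).toMonoidHom := by
        rw [hmap]
        exact ⟨x, rfl⟩
      obtain ⟨_, ⟨y, rfl⟩, hy⟩ := h1
      refine ⟨y, ?_⟩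
      have h2 : g * emb y * g⁻¹ = emb x := hy
      rw [← h2]
      group
    obtain ⟨u, s, t, rfl⟩ := norm_emb hg'
    obtain ⟨α, hα⟩ := H103.GT.exists_tor (RingEquiv.refl K) s.ne_zero t.ne_zero
    refine ⟨u, s, t, α, hα, fun x => ?_⟩
    rw [map_mul, map_mul, map_inv, ← tor_emb hα]
    group

end Cfsg.Agent.H913.GT
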