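import Cfsg.Agent.H913.GT.Def
import Cfsg.Agent.H638.G2Iso

/-!
# S5211, tasks G2-REAL-a, G2-SYL: the embedding of `GU K` into `Cfsg.Lie.G2 K`
-/

set_option autoImplicit false

namespace Cfsg.Agent.H913.GT

open Cfsg.Lie Matrix Cfsg.Agent.H638.G2Rep Cfsg.Agent.H638.G2Mem Cfsg.Agent.H638.G2Link Cfsg.Agent.H779.G2

universe u

variable {K : Type u} [Field K]

/-! ### the action on vectors -/

/-- the action of an element of `G₂(K)` on vectors -/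
def ac (g : Cfsg.Lie.G2 K) (x : Fin 8 → K) : Fin 8 → K :=
  ((g : GL (Fin 8) K) : Matrix (Fin 8) (Fin 8) K) *ᵥ x

theorem ac_mul (g h : Cfsg.Lie.G2 K) (x : Fin 8 → K) : ac (g * h) x = ac g (ac h x) := by
  rw [ac, ac, ac, Matrix.mulVec_mulVec]
  rfl

theorem ac_one (x : Fin 8 → K) : ac (1 : Cfsg.Lie.G2 K) x = x := Matrix.one_mulVec x

theorem ac_ext {g h : Cfsg.Lie.G2 K} (H : ∀ x, ac g x = ac h x) : g = h := by
  apply Subtype.ext
  apply Units.ext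
  exact Matrix.ext_of_mulVec_single fun i => H _

theorem ac_add (g : Cfsg.Lie.G2 K) (x y : Fin 8 → K) : ac g (x + y) = ac g x + ac g y := Matrix.mulVec_add _ _ _

theorem ac_smul (g : Cfsg.Lie.G2 K) (c : K) (x : Fin 8 → K) : ac g (c • x) = c • ac g x := Matrix.mulVec_smul _ _ _

theorem ac_zorn (g : Cfsg.Lie.G2 K) (x y : Fin 8 → K) : ac g (zornMul x y) = zornMul (ac g x) (ac g y) := g.2 x y

theorem ac_inv_ac (g : Cfsg.Lie.G2 K) (x : Fin 8 → K) : ac g⁻¹ (ac g x) = x := by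
  rw [← ac_mul, inv_mul_cancel, ac_one]

theorem ac_ac_inv (g : Cfsg.Lie.G2 K) (x : Fin 8 → K) : ac g (ac g⁻¹ x) = x := by
  rw [← ac_mul, mul_inv_cancel, ac_one]

theorem ac_injective (g : Cfsg.Lie.G2 K) {x y : Fin 8 → K} (h : ac g x = ac g y) : x = y := by
  rw [← ac_inv_ac g x, h, ac_inv_ac]

/-! ### the root elements -/

/-- the root element `x_r(t)`; `7` = `α`, `6` = `β`, `8` = `α + β`, `9` = `2α + β`, `10` = `3α + β`, `11` = `3α + 2β`; `11 - r` is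
the negative of `r` -/
def y (r : Fin 12) (t : K) : Cfsg.Lie.G2 K := ⟨yG r t, yG_mem r t⟩

theorem ac_y0 (t : K) (x : Fin 8 → K) : ac (y 0 t) x = ![x 0, x 1, x 2, x 3 - t * x 2, x 4, x 5 + t * x 6, x 6, x 7] :=
  mulVec_0 t x

theorem ac_y1 (t : K) (x : Fin 8 → K) : ac (y 1 t) x = ![x 0, x 1, x 2, x 3 - t * x 1, x 4 + t * x 6, x 5, x 6, x 7] :=
  mulVec_1 t x

theorem ac_y2 (t : K) (x : Fin 8 → K) : ac (y 2 t) x =
    ![x 0 - t * x 6, x 1, x 2, x 3 + t * x 0 - t * x 7 - t ^ 2 * x 6, x 4 - t * x 2, x 5 + t * x 1, x 6, x 7 + t * x 6] :=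
  mulVec_2 t x

theorem ac_y3 (t : K) (x : Fin 8 → K) : ac (y 3 t) x =
    ![x 0 - t * x 2, x 1 + t * x 6, x 2, x 3 - t * x 4, x 4, x 5 + t * x 0 - t * x 7 - t ^ 2 * x 2, x 6, x 7 + t * x 2] :=
  mulVec_3 t x

theorem ac_y4 (t : K) (x : Fin 8 → K) : ac (y 4 t) x =
    ![x 0 - t * x 1, x 1, x 2 - t * x 6, x 3 + t * x 5, x 4 + t * x 0 - t * x 7 - t ^ 2 * x 1, x 5, x 6, x 7 + t * x 1] :=
  mulVec_4 t x

theorem ac_y5 (t : K) (x : Fin 8 → K) : ac (y 5 t) x = ![x 0, x 1 + t * x 2, x 2, x 3, x 4, x 5 - t * x 4, x 6, x 7] :=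
  mulVec_5 t x

theorem ac_y6 (t : K) (x : Fin 8 → K) : ac (y 6 t) x = ![x 0, x 1, x 2 + t * x 1, x 3, x 4 - t * x 5, x 5, x 6, x 7] :=
  mulVec_6 t x

theorem ac_y7 (t : K) (x : Fin 8 → K) : ac (y 7 t) x =
    ![x 0 + t * x 4, x 1 - t * x 0 + t * x 7 - t ^ 2 * x 4, x 2, x 3, x 4, x 5 + t * x 3, x 6 - t * x 2, x 7 - t * x 4] :=
  mulVec_7 t x

theorem ac_y8 (t : K) (x : Fin 8 → K) : ac (y 8 t) x =
    ![x 0 + t * x 5, x 1, x 2 - t * x 0 + t * x 7 - t ^ 2 * x 5, x 3, x 4 - t * x 3, x 5, x 6 + t * x 1, x 7 - t * x 5] :=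
  mulVec_8 t x

theorem ac_y9 (t : K) (x : Fin 8 → K) : ac (y 9 t) x =
    ![x 0 + t * x 3, x 1 + t * x 5, x 2 - t * x 4, x 3, x 4, x 5, x 6 - t * x 0 + t * x 7 - t ^ 2 * x 3, x 7 - t * x 3] :=
  mulVec_9 t x

theorem ac_y10 (t : K) (x : Fin 8 → K) : ac (y 10 t) x = ![x 0, x 1 - t * x 3, x 2, x 3, x 4, x 5, x 6 + t * x 4, x 7] :=
  mulVec_10 t x

theorem ac_y11 (t : K) (x : Fin 8 → K) : ac (y 11 t) x = ![x 0, x 1, x 2 - t * x 3, x 3, x 4, x 5, x 6 + t * x 5, x 7] :=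
  mulVec_11 t x

/-! ### the embedding -/

/-- the image of an element of `GU K` -/
def em (g : GU K) : Cfsg.Lie.G2 K := y 7 g.a * y 6 g.b * y 8 g.c * y 9 g.d * y 10 (-g.e) * y 11 (-g.f)

/-- the action of `em g` -/
theorem ac_em (g : GU K) (x : Fin 8 → K) : ac (em g) x =
    ![x 0 + (g.d - g.a * g.c) * x 3 + g.a * x 4 + (g.c - g.a * g.b) * x 5,
      -g.a * x 0 + x 1 + (g.e - 2 * g.a * g.d + g.a ^ 2 * g.c) * x 3 - g.a ^ 2 * x 4
        + (g.d - 2 * g.a * g.c + g.a ^ 2 * g.b) * x 5 + g.a * x 7,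
      -g.c * x 0 + g.b * x 1 + x 2 + (g.f + g.b * g.e - 2 * g.c * g.d) * x 3 - g.d * x 4
        + (g.b * g.d - g.c ^ 2) * x 5 + g.c * x 7,
      x 3,
      -g.c * x 3 + x 4 - g.b * x 5,
      g.a * x 3 + x 5,
      (g.a * g.c - g.d) * x 0 + (g.c - g.a * g.b) * x 1 - g.a * x 2
        + (-g.d ^ 2 - g.a * g.f + g.c * g.e - g.a * g.b * g.e + 2 * g.a * g.c * g.d) * x 3 + (g.a * g.d - g.e) * x 4
        + (-g.f + g.a * g.c ^ 2 + g.c * g.d - g.a * g.b * g.d) * x 5 + x 6 + (g.d - g.a * g.c) * x 7,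
      (g.a * g.c - g.d) * x 3 - g.a * x 4 + (g.a * g.b - g.c) * x 5 + x 7] := by
  rw [em, ac_mul, ac_mul, ac_mul, ac_mul, ac_mul, ac_y11, ac_y10, ac_y9, ac_y8, ac_y6, ac_y7]
  ext i
  fin_cases i <;> simp <;> ring

theorem em_mul (g h : GU K) : em (g * h) = em g * em h := by
  apply ac_ext
  intro x
  rw [ac_mul, ac_em, ac_em, ac_em]
  ext i
  fin_cases i <;> simp <;> ring

/-- **The embedding** of `GU K` into `G₂(K)`. -/
def emb : GU K →* Cfsg.Lie.G2 K := MonoidHom.mk' em em_mul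

theorem emb_apply (g : GU K) :
    emb g = y 7 g.a * y 6 g.b * y 8 g.c * y 9 g.d * y 10 (-g.e) * y 11 (-g.f) := rfl

theorem ac_emb (g : GU K) (x : Fin 8 → K) : ac (emb g) x =
    ![x 0 + (g.d - g.a * g.c) * x 3 + g.a * x 4 + (g.c - g.a * g.b) * x 5,
      -g.a * x 0 + x 1 + (g.e - 2 * g.a * g.d + g.a ^ 2 * g.c) * x 3 - g.a ^ 2 * x 4
        + (g.d - 2 * g.a * g.c + g.a ^ 2 * g.b) * x 5 + g.a * x 7,
      -g.c * x 0 + g.b * x 1 + x 2 + (g.f + g.b * g.e - 2 * g.c * g.d) * x 3 - g.d * x 4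
        + (g.b * g.d - g.c ^ 2) * x 5 + g.c * x 7,
      x 3,
      -g.c * x 3 + x 4 - g.b * x 5,
      g.a * x 3 + x 5,
      (g.a * g.c - g.d) * x 0 + (g.c - g.a * g.b) * x 1 - g.a * x 2
        + (-g.d ^ 2 - g.a * g.f + g.c * g.e - g.a * g.b * g.e + 2 * g.a * g.c * g.d) * x 3 + (g.a * g.d - g.e) * x 4
        + (-g.f + g.a * g.c ^ 2 + g.c * g.d - g.a * g.b * g.d) * x 5 + x 6 + (g.d - g.a * g.c) * x 7,
      (g.a * g.c - g.d) * x 3 - g.a * x 4 + (g.a * g.b - g.c) * x 5 + x 7] := ac_em g x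

theorem emb_injective : Function.Injective (emb : GU K →* Cfsg.Lie.G2 K) := by
  rw [injective_iff_map_eq_one]
  intro g hg
  have h : ∀ x : Fin 8 → K, ac (emb g) x = x := fun x => by rw [hg, ac_one]
  have ha : g.a = 0 := by
    have := congrFun (h ![0, 0, 0, 0, 0, 0, 0, 1]) 1
    rw [ac_emb] at this
    simpa using this
  have hc : g.c = 0 := by
    have := congrFun (h ![0, 0, 0, 0, 0, 0, 0, 1]) 2
    rw [ac_emb] at this
    simpa using this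
  have hb : g.b = 0 := by
    have := congrFun (h ![0, 1, 0, 0, 0, 0, 0, 0]) 2
    rw [ac_emb] at this
    simpa using this
  have hd : g.d = 0 := by
    have := congrFun (h ![0, 0, 0, 0, 1, 0, 0, 0]) 2
    rw [ac_emb] at this
    simpa using this
  have he : g.e = 0 := by
    have := congrFun (h ![0, 0, 0, 0, 1, 0, 0, 0]) 6
    rw [ac_emb] at this
    simpa [ha] using this
  have hf : g.f = 0 := by
    have := congrFun (h ![0, 0, 0, 1, 0, 0, 0, 0]) 2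
    rw [ac_emb] at this
    simpa [hb, hc] using this
  exact GU.ext ha hb hc hd he hf

/-! ### the order -/

theorem finite_G2 [Finite K] : Finite (Cfsg.Lie.G2 K) := by
  have : Finite (GL (Fin 8) K) := Finite.of_injective (fun g : GL (Fin 8) K => (g : Matrix (Fin 8) (Fin 8) K))
    (fun g h e => Units.ext e)
  infer_instance

theorem not_dvd_index {p n : ℕ} (h : HypG K p n) : ¬ p ∣ (emb : GU K →* Cfsg.Lie.G2 K).range.index := by
  have hfin : Finite K := h.fin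
  have h1 : Nat.card (emb : GU K →* Cfsg.Lie.G2 K).range = Nat.card K ^ 6 := by
    rw [← Nat.card_congr (MonoidHom.ofInjective emb_injective).toEquiv, GU.card_eq]
  have h2 := (emb : GU K →* Cfsg.Lie.G2 K).range.card_mul_index
  rw [Cfsg.Agent.H638.G2Iso.card_G2, h1, mul_assoc] at h2
  have h0 : 0 < Nat.card K ^ 6 := pow_pos Nat.card_pos 6
  have h3 := Nat.eq_of_mul_eq_mul_left h0 h2
  rw [h3]
  have hd : p ∣ Nat.card K := by
    rw [h.card]
    exact dvd_pow_self p (by have := h.hn; omega)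
  have key : ∀ k : ℕ, k ≠ 0 → ¬ p ∣ Nat.card K ^ k - 1 := by
    intro k hk hdv
    have h4 : p ∣ Nat.card K ^ k := dvd_pow hd hk
    have h5 : 1 ≤ Nat.card K ^ k := Nat.one_le_pow _ _ Nat.card_pos
    have h6 := Nat.dvd_sub h4 hdv
    rw [Nat.sub_sub_self h5] at h6
    exact h.pp.one_lt.ne' (Nat.dvd_one.1 h6)
  exact h.pp.not_dvd_mul (key 2 (by norm_num)) (key 6 (by norm_num))

end Cfsg.Agent.H913.GT
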