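import Cfsg.Agent.H913.GT.Tor

/-!
# S5211, task G2-REAL-a: the normalizer of `emb.range` in `Cfsg.Lie.G2 K`
-/

set_option autoImplicit false

namespace Cfsg.Agent.H913.GT

open Cfsg.Lie Matrix Cfsg.Agent.H638.G2Mem Cfsg.Agent.H779.G2

universe u

variable {K : Type u} [Field K]

/-! ### isotropic vectors -/

theorem sq0 {v : Fin 8 → K} (h : zornMul v v = 0) :
    v 7 = - v 0 ∧ v 1 * v 4 + v 2 * v 5 + v 3 * v 6 = - v 0 ^ 2 := by
  rw [zorn_apply] at h
  have e0 : v 0 * v 0 + (v 1 * v 4 + v 2 * v 5 + v 3 * v 6) = 0 := congrFun h 0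
  have e1 : v 0 * v 1 + v 7 * v 1 - (v 5 * v 6 - v 6 * v 5) = 0 := congrFun h 1
  have e2 : v 0 * v 2 + v 7 * v 2 - (v 6 * v 4 - v 4 * v 6) = 0 := congrFun h 2
  have e3 : v 0 * v 3 + v 7 * v 3 - (v 4 * v 5 - v 5 * v 4) = 0 := congrFun h 3
  have e7 : (v 4 * v 1 + v 5 * v 2 + v 6 * v 3) + v 7 * v 7 = 0 := congrFun h 7
  have hS : v 1 * v 4 + v 2 * v 5 + v 3 * v 6 = - v 0 ^ 2 := by linear_combination e0
  refine ⟨?_, hS⟩
  by_contra hne
  have hne' : v 0 + v 7 ≠ 0 := fun h' => hne (by linear_combination h')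
  have h1 : v 1 = 0 := (mul_eq_zero.1 (show (v 0 + v 7) * v 1 = 0 by linear_combination e1)).resolve_left hne'
  have h2 : v 2 = 0 := (mul_eq_zero.1 (show (v 0 + v 7) * v 2 = 0 by linear_combination e2)).resolve_left hne'
  have h3 : v 3 = 0 := (mul_eq_zero.1 (show (v 0 + v 7) * v 3 = 0 by linear_combination e3)).resolve_left hne'
  rw [h1, h2, h3] at e0 e7
  have h0 : v 0 = 0 := by
    have : v 0 * v 0 = 0 := by linear_combination e0
    exact mul_self_eq_zero.1 this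
  have h7 : v 7 = 0 := by
    have : v 7 * v 7 = 0 := by linear_combination e7
    exact mul_self_eq_zero.1 this
  exact hne (by rw [h0, h7, neg_zero])

/-- the vector with two entries different from zero -/
theorem ac_emb_a (t : K) (x : Fin 8 → K) : ac (emb (⟨t, 0, 0, 0, 0, 0⟩ : GU K)) x =
    ![x 0 + t * x 4, -t * x 0 + x 1 - t ^ 2 * x 4 + t * x 7, x 2, x 3, x 4, t * x 3 + x 5, - t * x 2 + x 6,
      - t * x 4 + x 7] := by
  rw [ac_emb]
  ext i
  fin_cases i <;> simp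

theorem ac_emb_b (t : K) (x : Fin 8 → K) : ac (emb (⟨0, t, 0, 0, 0, 0⟩ : GU K)) x =
    ![x 0, x 1, t * x 1 + x 2, x 3, x 4 - t * x 5, x 5, x 6, x 7] := by
  rw [ac_emb]
  ext i
  fin_cases i <;> simp

theorem sq_E {i : Fin 8} (h0 : i ≠ 0) (h7 : i ≠ 7) : zornMul (Pi.single i 1 : Fin 8 → K) (Pi.single i 1) = 0 := by
  rw [zorn_apply]
  ext j
  fin_cases i <;> fin_cases j <;> simp at h0 h7 ⊢

omit [Field K] in
theorem vec_eq {v w : Fin 8 → K} (h0 : v 0 = w 0) (h1 : v 1 = w 1) (h2 : v 2 = w 2) (h3 : v 3 = w 3) (h4 : v 4 = w 4)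
    (h5 : v 5 = w 5) (h6 : v 6 = w 6) (h7 : v 7 = w 7) : v = w := by
  funext i
  fin_cases i <;> assumption

/-- the equations of a vector which is fixed modulo the last coordinate -/
theorem fixed_aux {v : Fin 8 → K}
    (ha : ∃ c : K, ac (emb (⟨1, 0, 0, 0, 0, 0⟩ : GU K)) v = v + c • (Pi.single 6 1 : Fin 8 → K))
    (hb : ∃ c : K, ac (emb (⟨0, 1, 0, 0, 0, 0⟩ : GU K)) v = v + c • (Pi.single 6 1 : Fin 8 → K)) (hz : zornMul v v = 0) :
    v = v 2 • (Pi.single 2 1 : Fin 8 → K) + v 6 • (Pi.single 6 1 : Fin 8 → K) := by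
  obtain ⟨c, ha⟩ := ha
  obtain ⟨d, hb⟩ := hb
  rw [ac_emb_a] at ha
  rw [ac_emb_b] at hb
  have a0 := congrFun ha 0
  have a1 := congrFun ha 1
  have a5 := congrFun ha 5
  have b2 := congrFun hb 2
  have b4 := congrFun hb 4
  simp at a0 a1 a5 b2 b4
  obtain ⟨e1, e2⟩ := sq0 hz
  have h7 : v 7 = v 0 := by
    rw [a0] at a1
    linear_combination a1
  have h0 : v 0 = 0 := by
    rw [a0, b4, a5] at e2
    have : v 0 ^ 2 = 0 := by linear_combination e2
    exact pow_eq_zero_iff (two_ne_zero) |>.1 this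
  apply vec_eq <;> simp [a0, a5, b2, b4, h7, h0]

/-! ### the stabilizer of the flag -/

section

variable {g : Cfsg.Lie.G2 K}

theorem ac_sq {i : Fin 8} (g : Cfsg.Lie.G2 K) (h0 : i ≠ 0) (h7 : i ≠ 7) :
    zornMul (ac g (Pi.single i 1)) (ac g (Pi.single i 1)) = 0 := by
  rw [← ac_zorn, sq_E h0 h7]
  have h1 := ac_smul g 0 0
  rwa [zero_smul, zero_smul] at h1

theorem E46 : zornMul (Pi.single 4 1 : Fin 8 → K) (Pi.single 6 1) = Pi.single 2 1 := by
  rw [zorn_apply]; ext j; fin_cases j <;> simp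
theorem E12 : zornMul (Pi.single 1 1 : Fin 8 → K) (Pi.single 2 1) = Pi.single 6 1 := by
  rw [zorn_apply]; ext j; fin_cases j <;> simp
theorem E23 : zornMul (Pi.single 2 1 : Fin 8 → K) (Pi.single 3 1) = Pi.single 4 1 := by
  rw [zorn_apply]; ext j; fin_cases j <;> simp
theorem E31 : zornMul (Pi.single 3 1 : Fin 8 → K) (Pi.single 1 1) = Pi.single 5 1 := by
  rw [zorn_apply]; ext j; fin_cases j <;> simp
theorem E14 : zornMul (Pi.single 1 1 : Fin 8 → K) (Pi.single 4 1) = Pi.single 0 1 := by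
  rw [zorn_apply]; ext j; fin_cases j <;> simp
theorem E41 : zornMul (Pi.single 4 1 : Fin 8 → K) (Pi.single 1 1) = Pi.single 7 1 := by
  rw [zorn_apply]; ext j; fin_cases j <;> simp
theorem E03 : zornMul (Pi.single 0 1 : Fin 8 → K) (Pi.single 3 1) = Pi.single 3 1 := by
  rw [zorn_apply]; ext j; fin_cases j <;> simp

/-- an element is determined by the images of the basis -/
theorem ext_basis {g h : Cfsg.Lie.G2 K} (H : ∀ i, ac g (Pi.single i 1) = ac h (Pi.single i 1)) : g = h := by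
  apply Subtype.ext
  apply Units.ext
  exact Matrix.ext_of_mulVec_single fun i => H i

/-- first step: `e₄` -/
theorem step4 (h2 : ac g (Pi.single 2 1) = Pi.single 2 1) (h6 : ac g (Pi.single 6 1) = Pi.single 6 1) :
    ∃ p q : K, ac g (Pi.single 4 1) = Pi.single 4 1 + p • Pi.single 2 1 + q • Pi.single 6 1 := by
  have hz := ac_sq g (i := 4) (by decide) (by decide)
  have h := ac_zorn g (Pi.single 4 1) (Pi.single 6 1)
  rw [E46, h2, h6] at h
  generalize ac g (Pi.single 4 1) = v at hz h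
  rw [zorn_apply] at h
  obtain ⟨s1, s2⟩ := sq0 hz
  have k3 : v 3 = 0 := by simpa using (congrFun h 0).symm
  have k5 : v 5 = 0 := by simpa using (congrFun h 1).symm
  have k4 : v 4 = 1 := by simpa using (congrFun h 2).symm
  have k7 : v 7 = 0 := by simpa using (congrFun h 6).symm
  have k0 : v 0 = 0 := by linear_combination s1 - k7
  have k1 : v 1 = 0 := by
    rw [k3, k5, k4, k0] at s2
    linear_combination s2
  exact ⟨v 2, v 6, by apply vec_eq <;> simp [k0, k1, k3, k4, k5, k7]⟩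

/-- second step: `e₁` -/
theorem step1 (h2 : ac g (Pi.single 2 1) = Pi.single 2 1) (h6 : ac g (Pi.single 6 1) = Pi.single 6 1) :
    ∃ p q : K, ac g (Pi.single 1 1) = Pi.single 1 1 + p • Pi.single 2 1 + q • Pi.single 6 1 := by
  have hz := ac_sq g (i := 1) (by decide) (by decide)
  have h := ac_zorn g (Pi.single 1 1) (Pi.single 2 1)
  rw [E12, h2, h6] at h
  generalize ac g (Pi.single 1 1) = v at hz h
  rw [zorn_apply] at h
  obtain ⟨s1, s2⟩ := sq0 hz
  have k0 : v 0 = 0 := by simpa using (congrFun h 2).symm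
  have k3 : v 3 = 0 := by simpa using (congrFun h 4).symm
  have k1 : v 1 = 1 := by simpa using (congrFun h 6).symm
  have k5 : v 5 = 0 := by simpa using (congrFun h 7).symm
  have k7 : v 7 = 0 := by rw [s1, k0, neg_zero]
  have k4 : v 4 = 0 := by
    rw [k3, k5, k1, k0] at s2
    linear_combination s2
  exact ⟨v 2, v 6, by apply vec_eq <;> simp [k0, k1, k3, k4, k5, k7]⟩

/-- third step: `e₃` -/
theorem step3 (h1 : ac g (Pi.single 1 1) = Pi.single 1 1) (h2 : ac g (Pi.single 2 1) = Pi.single 2 1)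
    (h4 : ac g (Pi.single 4 1) = Pi.single 4 1) :
    ∃ p : K, ac g (Pi.single 3 1) = Pi.single 3 1 + p • Pi.single 2 1 := by
  have hz := ac_sq g (i := 3) (by decide) (by decide)
  have h0 : ac g (Pi.single 0 1) = Pi.single 0 1 := by rw [← E14, ac_zorn, h1, h4]
  have h := ac_zorn g (Pi.single 2 1) (Pi.single 3 1)
  have h' := ac_zorn g (Pi.single 0 1) (Pi.single 3 1)
  rw [E23, h4, h2] at h
  rw [E03, h0] at h'
  generalize ac g (Pi.single 3 1) = v at hz h h'
  rw [zorn_apply] at h h'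
  obtain ⟨s1, s2⟩ := sq0 hz
  have k5 : v 5 = 0 := by simpa using (congrFun h 0).symm
  have k7 : v 7 = 0 := by simpa using (congrFun h 2).symm
  have k3 : v 3 = 1 := by simpa using (congrFun h 4).symm
  have k1 : v 1 = 0 := by simpa using (congrFun h 6).symm
  have k4 : v 4 = 0 := by simpa using congrFun h' 4
  have k0 : v 0 = 0 := by linear_combination s1 - k7
  have k6 : v 6 = 0 := by
    rw [k3, k5, k1, k0] at s2
    linear_combination s2
  exact ⟨v 2, by apply vec_eq <;> simp [k0, k1, k3, k4, k5, k6, k7]⟩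

/-- last step -/
theorem step0 (h1 : ac g (Pi.single 1 1) = Pi.single 1 1) (h2 : ac g (Pi.single 2 1) = Pi.single 2 1)
    (h3 : ac g (Pi.single 3 1) = Pi.single 3 1) (h4 : ac g (Pi.single 4 1) = Pi.single 4 1)
    (h6 : ac g (Pi.single 6 1) = Pi.single 6 1) : g = 1 := by
  have h0 : ac g (Pi.single 0 1) = Pi.single 0 1 := by rw [← E14, ac_zorn, h1, h4]
  have h5 : ac g (Pi.single 5 1) = Pi.single 5 1 := by rw [← E31, ac_zorn, h3, h1]
  have h7 : ac g (Pi.single 7 1) = Pi.single 7 1 := by rw [← E41, ac_zorn, h4, h1]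
  apply ext_basis
  intro i
  rw [ac_one]
  fin_cases i <;> assumption

theorem ac_emb_two (u : GU K) : ac (emb u) (Pi.single 2 1) = Pi.single 2 1 + (-u.a) • Pi.single 6 1 := by
  rw [ac_emb]
  apply vec_eq <;> simp

theorem ac_emb_six (u : GU K) : ac (emb u) (Pi.single 6 1) = Pi.single 6 1 := by
  rw [ac_emb]
  apply vec_eq <;> simp

theorem ac_emb_four {u : GU K} (ha : u.a = 0) :
    ac (emb u) (Pi.single 4 1) = Pi.single 4 1 + (-u.d) • Pi.single 2 1 + (-u.e) • Pi.single 6 1 := by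
  rw [ac_emb]
  apply vec_eq <;> simp [ha]

theorem ac_emb_one {u : GU K} (ha : u.a = 0) :
    ac (emb u) (Pi.single 1 1) = Pi.single 1 1 + u.b • Pi.single 2 1 + u.c • Pi.single 6 1 := by
  rw [ac_emb]
  apply vec_eq <;> simp [ha]

theorem ac_emb_three {t : K} :
    ac (emb (⟨0, 0, 0, 0, 0, t⟩ : GU K)) (Pi.single 3 1) = Pi.single 3 1 + t • Pi.single 2 1 := by
  rw [ac_emb]
  apply vec_eq <;> simp

theorem mem_of_fix4 (h1 : ac g (Pi.single 1 1) = Pi.single 1 1) (h2 : ac g (Pi.single 2 1) = Pi.single 2 1)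
    (h4 : ac g (Pi.single 4 1) = Pi.single 4 1) (h6 : ac g (Pi.single 6 1) = Pi.single 6 1) :
    g ∈ (emb : GU K →* Cfsg.Lie.G2 K).range := by
  obtain ⟨p, hp⟩ := step3 h1 h2 h4
  let u : GU K := ⟨0, 0, 0, 0, 0, p⟩
  have k : (emb u)⁻¹ * g = 1 := by
    have key : ∀ w z : Fin 8 → K, ac g w = ac (emb u) z → ac ((emb u)⁻¹ * g) w = z := by
      intro w z h
      rw [ac_mul, h, ac_inv_ac]
    apply step0
    · apply key
      rw [h1, ac_emb_one rfl]
      simp [u]
    · apply key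
      rw [h2, ac_emb_two]
      simp [u]
    · apply key
      rw [hp]
      exact ac_emb_three.symm
    · apply key
      rw [h4, ac_emb_four rfl]
      simp [u]
    · apply key
      rw [h6, ac_emb_six]
  exact ⟨u, (inv_mul_eq_one.1 k)⟩

theorem mem_of_fix3 (h2 : ac g (Pi.single 2 1) = Pi.single 2 1)
    (h4 : ac g (Pi.single 4 1) = Pi.single 4 1) (h6 : ac g (Pi.single 6 1) = Pi.single 6 1) :
    g ∈ (emb : GU K →* Cfsg.Lie.G2 K).range := by
  obtain ⟨p, q, hp⟩ := step1 h2 h6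
  let u : GU K := ⟨0, p, q, 0, 0, 0⟩
  have key : ∀ w z : Fin 8 → K, ac g w = ac (emb u) z → ac ((emb u)⁻¹ * g) w = z := by
    intro w z h
    rw [ac_mul, h, ac_inv_ac]
  have k : (emb u)⁻¹ * g ∈ (emb : GU K →* Cfsg.Lie.G2 K).range := by
    apply mem_of_fix4
    · apply key
      rw [hp, ac_emb_one rfl]
    · apply key
      rw [h2, ac_emb_two]
      simp [u]
    · apply key
      rw [h4, ac_emb_four rfl]
      simp [u]
    · apply key
      rw [h6, ac_emb_six]
  have := mul_mem (show emb u ∈ (emb : GU K →* Cfsg.Lie.G2 K).range from ⟨u, rfl⟩) k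
  rwa [mul_inv_cancel_left] at this

theorem mem_of_fix2 (h2 : ac g (Pi.single 2 1) = Pi.single 2 1) (h6 : ac g (Pi.single 6 1) = Pi.single 6 1) :
    g ∈ (emb : GU K →* Cfsg.Lie.G2 K).range := by
  obtain ⟨p, q, hp⟩ := step4 h2 h6
  let u : GU K := ⟨0, 0, 0, -p, -q, 0⟩
  have key : ∀ w z : Fin 8 → K, ac g w = ac (emb u) z → ac ((emb u)⁻¹ * g) w = z := by
    intro w z h
    rw [ac_mul, h, ac_inv_ac]
  have k : (emb u)⁻¹ * g ∈ (emb : GU K →* Cfsg.Lie.G2 K).range := by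
    apply mem_of_fix3
    · apply key
      rw [h2, ac_emb_two]
      simp [u]
    · apply key
      rw [hp, ac_emb_four rfl]
      simp [u]
    · apply key
      rw [h6, ac_emb_six]
  have := mul_mem (show emb u ∈ (emb : GU K →* Cfsg.Lie.G2 K).range from ⟨u, rfl⟩) k
  rwa [mul_inv_cancel_left] at this

/-- the stabilizer of the flag is the Borel subgroup -/
theorem exists_of_flag {m n k : K} (h6 : ac g (Pi.single 6 1) = m • Pi.single 6 1)
    (h2 : ac g (Pi.single 2 1) = n • Pi.single 2 1 + k • Pi.single 6 1) :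
    ∃ (u : GU K) (s t : Kˣ), g = emb u * tor s t := by
  have hE : ∀ i : Fin 8, (Pi.single i 1 : Fin 8 → K) ≠ 0 := fun i => by simp
  have hm : m ≠ 0 := by
    rintro rfl
    rw [zero_smul] at h6
    have h0 := ac_smul g 0 0
    rw [zero_smul, zero_smul] at h0
    exact hE 6 (ac_injective g (h6.trans h0.symm))
  have hn : n ≠ 0 := by
    rintro rfl
    rw [zero_smul, zero_add] at h2
    have h0 : ac g (Pi.single 2 1) = ac g ((m⁻¹ * k) • Pi.single 6 1) := by
      rw [ac_smul, h6, h2, smul_smul]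
      congr 1
      field_simp
    have h1 := congrFun (ac_injective g h0) 2
    simp at h1
  let s : Kˣ := Units.mk0 (m / n) (div_ne_zero hm hn)
  let t : Kˣ := Units.mk0 (n ^ 2 / m) (div_ne_zero (pow_ne_zero 2 hn) hm)
  have hs : (s : K) = m / n := rfl
  have ht : (t : K) = n ^ 2 / m := rfl
  have t6 : ac (tor s t) (m⁻¹ • Pi.single 6 1) = Pi.single 6 1 := by
    rw [ac_smul, ac_tor, hs, ht]
    apply vec_eq <;> simp
    field_simp
  have t2 : ac (tor s t) (n⁻¹ • Pi.single 2 1) = Pi.single 2 1 := by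
    rw [ac_smul, ac_tor, hs, ht]
    apply vec_eq <;> simp
    field_simp
  have i6 : ac (tor s t)⁻¹ (Pi.single 6 1) = m⁻¹ • Pi.single 6 1 := by
    rw [← ac_inv_ac (tor s t) (m⁻¹ • Pi.single 6 1), t6]
  have i2 : ac (tor s t)⁻¹ (Pi.single 2 1) = n⁻¹ • Pi.single 2 1 := by
    rw [← ac_inv_ac (tor s t) (n⁻¹ • Pi.single 2 1), t2]
  let u : GU K := ⟨-(n⁻¹ * k), 0, 0, 0, 0, 0⟩
  have key : ∀ w z : Fin 8 → K, ac (g * (tor s t)⁻¹) w = ac (emb u) z →
      ac ((emb u)⁻¹ * (g * (tor s t)⁻¹)) w = z := by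
    intro w z h
    rw [ac_mul, h, ac_inv_ac]
  have k : (emb u)⁻¹ * (g * (tor s t)⁻¹) ∈ (emb : GU K →* Cfsg.Lie.G2 K).range := by
    apply mem_of_fix2
    · apply key
      rw [ac_mul, i2, ac_smul, h2, ac_emb_two, smul_add, smul_smul, smul_smul, inv_mul_cancel₀ hn, one_smul, neg_neg]
    · apply key
      rw [ac_mul, i6, ac_smul, h6, ac_emb_six, smul_smul, inv_mul_cancel₀ hm, one_smul]
  obtain ⟨v, hv⟩ := k
  refine ⟨u * v, s, t, ?_⟩
  rw [map_mul, hv]
  group

/-- **The normalizer.** -/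
theorem norm_emb (hg : ∀ x : GU K, ∃ y : GU K, emb x * g = g * emb y) :
    ∃ (u : GU K) (s t : Kˣ), g = emb u * tor s t := by
  have f6 : ∀ x : GU K, ac (emb x) (ac g (Pi.single 6 1)) = ac g (Pi.single 6 1) := by
    intro x
    obtain ⟨y, hy⟩ := hg x
    rw [← ac_mul, hy, ac_mul, ac_emb_six]
  have h6 := fixed_aux ⟨0, by rw [f6, zero_smul, add_zero]⟩ ⟨0, by rw [f6, zero_smul, add_zero]⟩
    (ac_sq g (i := 6) (by decide) (by decide))
  set m := ac g (Pi.single 6 1) 6 with hm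
  have h26 : ac g (Pi.single 6 1) 2 = 0 := by
    have h1 := congrFun (f6 ⟨1, 0, 0, 0, 0, 0⟩) 6
    rw [ac_emb_a] at h1
    simpa using h1
  rw [h26, zero_smul, zero_add] at h6
  have f2 : ∀ x : GU K, ∃ c : K, ac (emb x) (ac g (Pi.single 2 1)) = ac g (Pi.single 2 1) + c • Pi.single 6 1 := by
    intro x
    obtain ⟨y, hy⟩ := hg x
    refine ⟨-y.a * m, ?_⟩
    rw [← ac_mul, hy, ac_mul, ac_emb_two, ac_add, ac_smul, h6, smul_smul]
  have h2 := fixed_aux (f2 _) (f2 _) (ac_sq g (i := 2) (by decide) (by decide))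
  exact exists_of_flag h6 h2

end

end Cfsg.Agent.H913.GT
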