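import Cfsg.Agent.H913.GT.Emb

/-!
# S5211, task G2-REAL-a: the torus, the field automorphisms and the Weyl elements of `Cfsg.Lie.G2 K`
-/

set_option autoImplicit false

namespace Cfsg.Agent.H913.GT

open Cfsg.Lie Matrix Cfsg.Agent.H638.G2Rep Cfsg.Agent.H638.G2Mem Cfsg.Agent.H638.G2Link Cfsg.Agent.H779.G2

universe u

variable {K : Type u} [Field K]

/-! ### the torus -/

/-- the diagonal of the torus element -/
def dv (s t : K) : Fin 8 → K := ![1, s, s * t, (s ^ 2 * t)⁻¹, s⁻¹, (s * t)⁻¹, s ^ 2 * t, 1]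

theorem dv_mul_inv (s t : Kˣ) : Matrix.diagonal (dv (s : K) t) * Matrix.diagonal (dv (s : K)⁻¹ (t : K)⁻¹) = 1 := by
  have hs : (s : K) ≠ 0 := s.ne_zero
  have ht : (t : K) ≠ 0 := t.ne_zero
  rw [Matrix.diagonal_mul_diagonal, ← Matrix.diagonal_one]
  congr 1
  funext i
  fin_cases i <;> simp [dv] <;> field_simp

/-- the torus element in `GL₈` -/
def torGL (s t : Kˣ) : GL (Fin 8) K where
  val := Matrix.diagonal (dv (s : K) t)
  inv := Matrix.diagonal (dv (s : K)⁻¹ (t : K)⁻¹)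
  val_inv := dv_mul_inv s t
  inv_val := by
    have := dv_mul_inv s⁻¹ t⁻¹
    rwa [Units.val_inv_eq_inv_val, Units.val_inv_eq_inv_val, inv_inv, inv_inv] at this

theorem diag_mulVec (s t : Kˣ) (x : Fin 8 → K) : Matrix.diagonal (dv (s : K) t) *ᵥ x =
    ![x 0, s * x 1, s * t * x 2, ((s : K) ^ 2 * t)⁻¹ * x 3, (s : K)⁻¹ * x 4, ((s : K) * t)⁻¹ * x 5,
      (s : K) ^ 2 * t * x 6, x 7] := by
  funext i
  rw [Matrix.mulVec_diagonal]
  fin_cases i <;> simp [dv]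

/-- the torus element `h(s, t)` -/
def tor (s t : Kˣ) : Cfsg.Lie.G2 K := ⟨torGL s t, by
  have hs : (s : K) ≠ 0 := s.ne_zero
  have ht : (t : K) ≠ 0 := t.ne_zero
  intro x y
  show Matrix.diagonal (dv (s : K) t) *ᵥ zornMul x y =
    zornMul (Matrix.diagonal (dv (s : K) t) *ᵥ x) (Matrix.diagonal (dv (s : K) t) *ᵥ y)
  rw [diag_mulVec, diag_mulVec, diag_mulVec, zorn_apply, zorn_apply]
  ext i
  fin_cases i <;> simp <;> field_simp⟩

theorem ac_tor (s t : Kˣ) (x : Fin 8 → K) : ac (tor s t) x =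
    ![x 0, s * x 1, s * t * x 2, ((s : K) ^ 2 * t)⁻¹ * x 3, (s : K)⁻¹ * x 4, ((s : K) * t)⁻¹ * x 5,
      (s : K) ^ 2 * t * x 6, x 7] := diag_mulVec s t x

theorem tor_y7 (s t : Kˣ) (u : K) : tor s t * y 7 u * (tor s t)⁻¹ = y 7 (s * u) := by
  have hs : (s : K) ≠ 0 := s.ne_zero
  have ht : (t : K) ≠ 0 := t.ne_zero
  rw [mul_inv_eq_iff_eq_mul]
  apply ac_ext
  intro x
  rw [ac_mul, ac_mul, ac_tor, ac_y7, ac_tor, ac_y7]
  ext i
  fin_cases i <;> simp <;> field_simp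

theorem tor_y6 (s t : Kˣ) (u : K) : tor s t * y 6 u * (tor s t)⁻¹ = y 6 (t * u) := by
  have hs : (s : K) ≠ 0 := s.ne_zero
  have ht : (t : K) ≠ 0 := t.ne_zero
  rw [mul_inv_eq_iff_eq_mul]
  apply ac_ext
  intro x
  rw [ac_mul, ac_mul, ac_tor, ac_y6, ac_tor, ac_y6]
  ext i
  fin_cases i <;> simp <;> field_simp

theorem tor_y8 (s t : Kˣ) (u : K) : tor s t * y 8 u * (tor s t)⁻¹ = y 8 (s * t * u) := by
  have hs : (s : K) ≠ 0 := s.ne_zero
  have ht : (t : K) ≠ 0 := t.ne_zero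
  rw [mul_inv_eq_iff_eq_mul]
  apply ac_ext
  intro x
  rw [ac_mul, ac_mul, ac_tor, ac_y8, ac_tor, ac_y8]
  ext i
  fin_cases i <;> simp <;> field_simp

theorem tor_y9 (s t : Kˣ) (u : K) : tor s t * y 9 u * (tor s t)⁻¹ = y 9 ((s : K) ^ 2 * t * u) := by
  have hs : (s : K) ≠ 0 := s.ne_zero
  have ht : (t : K) ≠ 0 := t.ne_zero
  rw [mul_inv_eq_iff_eq_mul]
  apply ac_ext
  intro x
  rw [ac_mul, ac_mul, ac_tor, ac_y9, ac_tor, ac_y9]
  ext i
  fin_cases i <;> simp <;> field_simp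

theorem tor_y10 (s t : Kˣ) (u : K) : tor s t * y 10 u * (tor s t)⁻¹ = y 10 ((s : K) ^ 3 * t * u) := by
  have hs : (s : K) ≠ 0 := s.ne_zero
  have ht : (t : K) ≠ 0 := t.ne_zero
  rw [mul_inv_eq_iff_eq_mul]
  apply ac_ext
  intro x
  rw [ac_mul, ac_mul, ac_tor, ac_y10, ac_tor, ac_y10]
  ext i
  fin_cases i <;> simp <;> field_simp

theorem tor_y11 (s t : Kˣ) (u : K) : tor s t * y 11 u * (tor s t)⁻¹ = y 11 ((s : K) ^ 3 * (t : K) ^ 2 * u) := by
  have hs : (s : K) ≠ 0 := s.ne_zero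
  have ht : (t : K) ≠ 0 := t.ne_zero
  rw [mul_inv_eq_iff_eq_mul]
  apply ac_ext
  intro x
  rw [ac_mul, ac_mul, ac_tor, ac_y11, ac_tor, ac_y11]
  ext i
  fin_cases i <;> simp <;> field_simp

theorem tor_y4 (s t : Kˣ) (u : K) : tor s t * y 4 u * (tor s t)⁻¹ = y 4 ((s : K)⁻¹ * u) := by
  have hs : (s : K) ≠ 0 := s.ne_zero
  have ht : (t : K) ≠ 0 := t.ne_zero
  rw [mul_inv_eq_iff_eq_mul]
  apply ac_ext
  intro x
  rw [ac_mul, ac_mul, ac_tor, ac_y4, ac_tor, ac_y4]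
  ext i
  fin_cases i <;> simp <;> field_simp

theorem tor_y5 (s t : Kˣ) (u : K) : tor s t * y 5 u * (tor s t)⁻¹ = y 5 ((t : K)⁻¹ * u) := by
  have hs : (s : K) ≠ 0 := s.ne_zero
  have ht : (t : K) ≠ 0 := t.ne_zero
  rw [mul_inv_eq_iff_eq_mul]
  apply ac_ext
  intro x
  rw [ac_mul, ac_mul, ac_tor, ac_y5, ac_tor, ac_y5]
  ext i
  fin_cases i <;> simp <;> field_simp

/-! ### field automorphisms -/

theorem ev_map (τ : K →+* K) (t : K) (A : SP) : (ev t A).map τ = ev (τ t) A := by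
  induction A with
  | nil => rw [ev_nil, ev_nil]; ext i j; simp
  | cons p A ih =>
    rw [ev_cons, ev_cons, Matrix.map_add _ (map_add τ), ih]
    congr 1
    ext i j
    rw [Matrix.map_apply, term, term, Matrix.single_apply, Matrix.single_apply]
    split_ifs
    · rw [map_mul, map_pow, map_intCast]
    · exact map_zero τ

theorem zornMul_map (τ : K →+* K) (x y : Fin 8 → K) :
    (fun i => τ (zornMul x y i)) = zornMul (fun i => τ (x i)) (fun i => τ (y i)) := by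
  rw [zorn_apply, zorn_apply]
  ext i
  fin_cases i <;> simp

theorem map_mulVec (τ : K ≃+* K) (M : Matrix (Fin 8) (Fin 8) K) (x : Fin 8 → K) :
    M.map τ *ᵥ x = fun i => τ ((M *ᵥ (fun j => τ.symm (x j))) i) := by
  funext i
  simp [Matrix.mulVec, dotProduct]

theorem map_mem (τ : K ≃+* K) {g : GL (Fin 8) K} (hg : g ∈ Cfsg.Lie.G2 K) :
    Matrix.GeneralLinearGroup.map (τ : K →+* K) g ∈ Cfsg.Lie.G2 K := by
  intro x y
  show (g : Matrix (Fin 8) (Fin 8) K).map τ *ᵥ zornMul x y =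
    zornMul ((g : Matrix (Fin 8) (Fin 8) K).map τ *ᵥ x) ((g : Matrix (Fin 8) (Fin 8) K).map τ *ᵥ y)
  have h1 : (fun j => τ.symm (zornMul x y j)) = zornMul (fun j => τ.symm (x j)) (fun j => τ.symm (y j)) :=
    zornMul_map (τ.symm : K →+* K) x y
  have h2 := hg (fun j => τ.symm (x j)) (fun j => τ.symm (y j))
  have h3 : ∀ a b : Fin 8 → K, (fun i => τ (zornMul a b i)) = zornMul (fun i => τ (a i)) (fun i => τ (b i)) :=
    fun a b => zornMul_map (τ : K →+* K) a b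
  rw [map_mulVec, map_mulVec, map_mulVec, h1, ← h3]
  funext i
  exact congrArg τ (congrFun h2 i)

/-- field automorphisms, entrywise -/
def fld (τ : K ≃+* K) : MulAut (Cfsg.Lie.G2 K) where
  toFun g := ⟨Matrix.GeneralLinearGroup.map (τ : K →+* K) g, map_mem τ g.2⟩
  invFun g := ⟨Matrix.GeneralLinearGroup.map (τ.symm : K →+* K) g, map_mem τ.symm g.2⟩
  left_inv g := by
    apply Subtype.ext
    apply Units.ext
    ext i j
    exact τ.symm_apply_apply _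
  right_inv g := by
    apply Subtype.ext
    apply Units.ext
    ext i j
    exact τ.apply_symm_apply _
  map_mul' g h := Subtype.ext (map_mul (Matrix.GeneralLinearGroup.map (τ : K →+* K)) (g : GL (Fin 8) K) h)

theorem fld_y (τ : K ≃+* K) (r : Fin 12) (t : K) : fld τ (y r t) = y r (τ t) := by
  apply Subtype.ext
  apply Units.ext
  exact ev_map (τ : K →+* K) t _

/-! ### the Weyl elements -/

/-- the Weyl element of the short root -/
def na : Cfsg.Lie.G2 K := y 7 1 * y 4 (-1) * y 7 1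

/-- the Weyl element of the long root -/
def nb : Cfsg.Lie.G2 K := y 6 1 * y 5 (-1) * y 6 1

theorem ac_na (x : Fin 8 → K) : ac (na : Cfsg.Lie.G2 K) x = ![x 7, - x 4, x 6, - x 5, - x 1, x 3, - x 2, x 0] := by
  rw [na, ac_mul, ac_mul, ac_y7, ac_y4, ac_y7]
  ext i
  fin_cases i <;> simp <;> ring

theorem ac_nb (x : Fin 8 → K) : ac (nb : Cfsg.Lie.G2 K) x = ![x 0, - x 2, x 1, x 3, - x 5, x 4, x 6, x 7] := by
  rw [nb, ac_mul, ac_mul, ac_y6, ac_y5, ac_y6]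
  ext i
  fin_cases i <;> simp

theorem na_y6 (t : K) : na * y 6 t * na⁻¹ = y 10 t := by
  rw [mul_inv_eq_iff_eq_mul]
  apply ac_ext
  intro x
  rw [ac_mul, ac_mul, ac_na, ac_y6, ac_na, ac_y10]
  ext i
  fin_cases i <;> simp <;> ring

theorem nb_y7 (t : K) : nb * y 7 t * nb⁻¹ = y 8 t := by
  rw [mul_inv_eq_iff_eq_mul]
  apply ac_ext
  intro x
  rw [ac_mul, ac_mul, ac_nb, ac_y7, ac_nb, ac_y8]
  ext i
  fin_cases i <;> simp <;> ring

theorem na_y8 (t : K) : na * y 8 t * na⁻¹ = y 9 t := by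
  rw [mul_inv_eq_iff_eq_mul]
  apply ac_ext
  intro x
  rw [ac_mul, ac_mul, ac_na, ac_y8, ac_na, ac_y9]
  ext i
  fin_cases i <;> simp <;> ring

theorem nb_y10 (t : K) : nb * y 10 t * nb⁻¹ = y 11 t := by
  rw [mul_inv_eq_iff_eq_mul]
  apply ac_ext
  intro x
  rw [ac_mul, ac_mul, ac_nb, ac_y10, ac_nb, ac_y11]
  ext i
  fin_cases i <;> simp

/-- `n_a` acts on `Q_a` as the Weyl element -/
theorem na_emb {γ : MulAut (Qa K)} (h : IsWa γ) (e : Qa K) :
    na * emb (e : GU K) * na⁻¹ = emb ((γ e : Qa K) : GU K) := by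
  rw [mul_inv_eq_iff_eq_mul]
  apply ac_ext
  intro x
  have h0 : (e : GU K).a = 0 := e.2
  have h1 : ((γ e : Qa K) : GU K).a = 0 := (γ e).2
  rw [ac_mul, ac_mul, ac_emb, ac_na, ac_na, ac_emb, h0, h1, h.b, h.c, h.d, h.e, h.f]
  ext i
  fin_cases i <;> simp <;> ring

/-- `n_b` acts on `Q_b` as the Weyl element -/
theorem nb_emb {γ : MulAut (Qb K)} (h : IsWb γ) (e : Qb K) :
    nb * emb (e : GU K) * nb⁻¹ = emb ((γ e : Qb K) : GU K) := by
  rw [mul_inv_eq_iff_eq_mul]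
  apply ac_ext
  intro x
  have h0 : (e : GU K).b = 0 := e.2
  have h1 : ((γ e : Qb K) : GU K).b = 0 := (γ e).2
  rw [ac_mul, ac_mul, ac_emb, ac_nb, ac_nb, ac_emb, h0, h1, h.a, h.c, h.d, h.e, h.f]
  ext i
  fin_cases i <;> simp <;> ring

/-! ### torus and field automorphisms on `GU K` -/

/-- the automorphism of `G₂(K)` belonging to `s`, `t`, `τ` -/
def tau (s t : Kˣ) (τ : K ≃+* K) : MulAut (Cfsg.Lie.G2 K) := MulAut.conj (tor s t) * fld τ

theorem tau_apply (s t : Kˣ) (τ : K ≃+* K) (g : Cfsg.Lie.G2 K) : tau s t τ g = tor s t * fld τ g * (tor s t)⁻¹ := rfl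

theorem tau_y7 (s t : Kˣ) (τ : K ≃+* K) (u : K) : tau s t τ (y 7 u) = y 7 (s * τ u) := by
  rw [tau_apply, fld_y, tor_y7]
theorem tau_y6 (s t : Kˣ) (τ : K ≃+* K) (u : K) : tau s t τ (y 6 u) = y 6 (t * τ u) := by
  rw [tau_apply, fld_y, tor_y6]
theorem tau_y4 (s t : Kˣ) (τ : K ≃+* K) (u : K) : tau s t τ (y 4 u) = y 4 ((s : K)⁻¹ * τ u) := by
  rw [tau_apply, fld_y, tor_y4]
theorem tau_y5 (s t : Kˣ) (τ : K ≃+* K) (u : K) : tau s t τ (y 5 u) = y 5 ((t : K)⁻¹ * τ u) := by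
  rw [tau_apply, fld_y, tor_y5]
theorem tau_y8 (s t : Kˣ) (τ : K ≃+* K) (u : K) : tau s t τ (y 8 u) = y 8 (s * t * τ u) := by
  rw [tau_apply, fld_y, tor_y8]
theorem tau_y9 (s t : Kˣ) (τ : K ≃+* K) (u : K) : tau s t τ (y 9 u) = y 9 ((s : K) ^ 2 * t * τ u) := by
  rw [tau_apply, fld_y, tor_y9]
theorem tau_y10 (s t : Kˣ) (τ : K ≃+* K) (u : K) : tau s t τ (y 10 u) = y 10 ((s : K) ^ 3 * t * τ u) := by
  rw [tau_apply, fld_y, tor_y10]
theorem tau_y11 (s t : Kˣ) (τ : K ≃+* K) (u : K) : tau s t τ (y 11 u) = y 11 ((s : K) ^ 3 * (t : K) ^ 2 * τ u) := by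
  rw [tau_apply, fld_y, tor_y11]

theorem tau_emb {s t : Kˣ} {τ : K ≃+* K} {α : MulAut (GU K)} (h : IsTor α (s : K) (t : K) τ) (x : GU K) :
    tau s t τ (emb x) = emb (α x) := by
  rw [emb_apply, emb_apply]
  simp only [map_mul]
  rw [tau_y7, tau_y6, tau_y8, tau_y9, tau_y10, tau_y11, h.a, h.b, h.c, h.d, h.e, h.f, map_neg, map_neg, mul_neg, mul_neg]

theorem tor_emb {s t : Kˣ} {α : MulAut (GU K)} (h : IsTor α (s : K) (t : K) (RingEquiv.refl K)) (x : GU K) :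
    tor s t * emb x * (tor s t)⁻¹ = emb (α x) := by
  rw [← tau_emb h, tau_apply]
  congr 2

end Cfsg.Agent.H913.GT
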